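import Cfsg.Agent.H809.PiBS.ONLoc
import Cfsg.Agent.H543.PiBS.M11
import Cfsg.Agent.H940.EngData
import Cfsg.Agent.OrdDiv.Table
import Cfsg.Agent.S0000

/-!
# S3876, the row `O'N` with `2, 3 ∈ π` (helper809)

The sieve at the prime 3 gives `11 ∈ π`; then the structure of a Hall `π`-subgroup at the prime 11 (engine of helper940)
gives the whole group.
-/

set_option autoImplicit false
set_option maxRecDepth 100000

namespace Cfsg.Agent.H809.PiBS

open Subgroup Cfsg Cfsg.Agent.H543.PiBS Cfsg.Agent.OrdDiv Cfsg.Agent.H940 Cfsg.Agent.H940.Eng Cfsg.Agent.H940.Eng.D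
open Cfsg.Spor (ON)

namespace ON

/-- the local data at 11 -/
def ld11 : LD := ⟨11, 11, [(2, 1), (5, 1), (11, 1)]⟩

theorem loc11 : Loc ON ld11 := by
  refine ⟨by norm_num [ld11], ?_, ?_, fun R hR => ?_⟩
  · intro x hx
    simp only [ld11, List.mem_cons, List.not_mem_nil, or_false] at hx
    rcases hx with rfl | rfl | rfl <;> norm_num
  · show ¬ 11 ^ 2 ∣ Nat.card ON
    rw [card]
    norm_num
  · have h := Cfsg.Agent.H210.On7.h11 R hR
    rw [h.1, h.2]
    refine ⟨dvd_rfl, ?_⟩
    show 11 * 10 ∣ prodl [(2, 1), (5, 1), (11, 1)]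
    decide

theorem engBase : Eng.Base where
  table := OrdDiv.table
  known := fun S _ _ h => by
    haveI := h
    exact Cfsg.Agent.S0000.result

/-- the numerical check on the index -/
def chk : Bool := (divsT [(5, 1), (7, 3), (11, 1), (19, 1), (31, 1)]).all fun n =>
  n == 1 || Nat.gcd n (n_opn / n) != 1 || (if n % 5 == 0 then n % 3 != 2 else n % 3 != 1) ||
    ((n_opn / n) % 11 == 0 && !feas l_opn ld11 o_opn (n_opn / n))

theorem chk_true : chk = true := by decide +kernel

theorem model {π : Set ℕ} (h2 : 2 ∈ π) (h3 : 3 ∈ π) (hD : DC π ON) : PiGrp π ON := by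
  have := fin
  have h3F : Fact (Nat.Prime 3) := ⟨Nat.prime_three⟩
  obtain ⟨P, hP, hc, he⟩ := exists_sylow
  obtain ⟨H, hH⟩ := hD.exists_hall
  have hcop := hall_coprime hH
  have hmul := H.card_mul_index
  rw [card] at hmul
  have hn0 : 0 < H.index := Nat.pos_of_ne_zero index_ne_zero_of_finite
  have hdiv : 460815505920 / H.index = Nat.card H := by
    rw [← hmul, Nat.mul_div_cancel _ hn0]
  -- the index divides `5 * 7 ^ 3 * 11 * 19 * 31`
  have hn : H.index ∣ prodl [(5, 1), (7, 3), (11, 1), (19, 1), (31, 1)] := by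
    have h4 : H.index ∣ (2 ^ 9 * 3 ^ 4) * prodl [(5, 1), (7, 3), (11, 1), (19, 1), (31, 1)] := by
      have e : (2 ^ 9 * 3 ^ 4) * prodl [(5, 1), (7, 3), (11, 1), (19, 1), (31, 1)] = 460815505920 := by decide +kernel
      rw [e, ← hmul]
      exact dvd_mul_left _ _
    refine Nat.Coprime.dvd_of_dvd_mul_left ?_ h4
    refine Nat.Coprime.mul_right (Nat.Coprime.pow_right _ ?_) (Nat.Coprime.pow_right _ ?_)
    · exact ((Nat.Prime.coprime_iff_not_dvd Nat.prime_two).2 (fun h => hH.2 2 Nat.prime_two h2 h)).symm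
    · exact ((Nat.Prime.coprime_iff_not_dvd Nat.prime_three).2 (fun h => hH.2 3 Nat.prime_three h3 h)).symm
  have hmem := mem_divsT (l := [(5, 1), (7, 3), (11, 1), (19, 1), (31, 1)]) (by
    intro x hx
    simp only [List.mem_cons, List.not_mem_nil, or_false] at hx
    rcases hx with rfl | rfl | rfl | rfl | rfl <;> norm_num) hn
  have hchk := chk_true
  unfold chk at hchk
  rw [List.all_eq_true] at hchk
  have h5 := hchk _ hmem
  have en : n_opn = 460815505920 := rfl
  rw [en, hdiv, Bool.or_eq_true, Bool.or_eq_true, Bool.or_eq_true, beq_iff_eq, bne_iff_ne] at h5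
  rcases h5 with ((h5 | h5) | h5) | h5
  · -- the index is one
    refine piGrp_of_card hH ?_
    rw [card, ← hmul, h5, mul_one]
  · exact absurd hcop.symm h5
  · exfalso
    by_cases h5π : 5 ∈ π
    · have hN : IsPiSubgroup π (normalizer ((P : Subgroup ON) : Set ON)) := by
        intro t ht hd
        rcases primes hP he ht hd with h | h | h
        · rw [h]; exact h2
        · rw [h]; exact h3
        · rw [h]; exact h5π
      have h6 := sieve_top hD P hN hH
      have h7 : ¬ 5 ∣ H.index := fun h => hH.2 5 Nat.prime_five h5π h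
      rw [if_neg (by rw [beq_iff_eq]; exact fun h => h7 (Nat.dvd_of_mod_eq_zero h)), bne_iff_ne] at h5
      exact h5 h6
    · obtain ⟨K, hPK, hKN, hK, hKi⟩ := exists_K hP hc he
      have hKπ : IsPiSubgroup π K := by
        intro t ht hd
        rcases hK t ht hd with h | h
        · rw [h]; exact h2
        · rw [h]; exact h3
      have h6 := sieve_prime hD P hPK hKN hKπ Nat.prime_five h5π hKi hH
      have h7 : 5 ∣ H.index := by
        have h8 : ¬ 5 ∣ Nat.card H := fun h => h5π (hH.1 5 Nat.prime_five h)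
        have h9 : 5 ∣ Nat.card H * H.index := by rw [hmul]; norm_num
        rcases (Nat.prime_five.dvd_mul).1 h9 with h | h
        · exact absurd h h8
        · exact h
      rw [if_pos (by rw [beq_iff_eq]; exact Nat.mod_eq_zero_of_dvd h7), bne_iff_ne] at h5
      exact h5 h6
  · exfalso
    rw [Bool.and_eq_true, beq_iff_eq, Bool.not_eq_true'] at h5
    have h6 := feas_of v_opn (card.trans en.symm) (ords_opn engBase) loc11 (H := H) (Nat.dvd_of_mod_eq_zero h5.1)
    rw [h6] at h5
    exact absurd h5.2 (by decide)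

end ON

/-- **S3876, the row `O'N`** -/
theorem row_ON {S : Type*} [Group S] [Finite S] (h : Cfsg.Spor.IsoON S) {pi : Set ℕ} (h2 : 2 ∈ pi) (h3 : 3 ∈ pi)
    (hD : DC pi S) : PiGrp pi S := by
  obtain ⟨e⟩ := h
  have h1 := ON.model h2 h3 (hD.congr e)
  intro p hp hd
  exact h1 p hp (by rw [← Nat.card_congr e.toEquiv]; exact hd)

end Cfsg.Agent.H809.PiBS
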