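import Cfsg.Agent.H809.PiBS.Sieve
import Cfsg.Agent.H210.On7.Primes
import Cfsg.Agent.CpAut.SporThree.ON

/-!
# The normalizer of a Sylow 3-subgroup of the O'Nan group (S3876, helper809)

`N(R)` is a `{2, 3, 5}`-group with a `{2, 3}`-subgroup of index 5.
-/

set_option autoImplicit false
set_option maxRecDepth 100000

namespace Cfsg.Agent.H809.PiBS.ON

open Subgroup Cfsg
open Cfsg.Spor (ON)

theorem fin : Finite ON := Cfsg.Agent.KFacts.ON.Cent.finite_ON
theorem card : Nat.card ON = 460815505920 := Cfsg.Agent.KFacts.ON.Cent.hON.2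

/-- an elementary abelian Sylow 3-subgroup -/
theorem exists_sylow : ∃ P : Sylow 3 ON, Nat.card P = 81 ∧ (∀ a ∈ P, ∀ b ∈ P, a * b = b * a) ∧ ∀ a ∈ P, a ^ 3 = 1 := by
  have := fin
  have h3 : Fact (Nat.Prime 3) := ⟨Nat.prime_three⟩
  obtain ⟨E, hE, hc, he⟩ := Cfsg.Agent.CpAut.SporThree.ON.exists_E
  have h1 : IsPGroup 3 E := IsPGroup.of_card hE
  have h2 : ¬ 3 ∣ E.index := by
    intro hd
    have h4 := E.card_mul_index
    obtain ⟨k, hk⟩ := hd
    rw [hE, hk, card] at h4
    omega
  exact ⟨h1.toSylow h2, hE, hc, he⟩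

section loc

variable {P : Sylow 3 ON} (hP : Nat.card P = 81) (hc : ∀ a ∈ P, ∀ b ∈ P, a * b = b * a) (he : ∀ a ∈ P, a ^ 3 = 1)

theorem order_three {a : ON} (he : a ^ 3 = 1) (ha : a ≠ 1) : orderOf a = 3 := by
  have h3 : Fact (Nat.Prime 3) := ⟨Nat.prime_three⟩
  exact orderOf_eq_prime he ha

include hP he in
/-- the primes of `N(R)` -/
theorem primes {t : ℕ} (ht : t.Prime) (hd : t ∣ Nat.card (normalizer ((P : Subgroup ON) : Set ON))) :
    t = 2 ∨ t = 3 ∨ t = 5 := by
  have := fin
  have htF : Fact t.Prime := ⟨ht⟩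
  by_contra hcon
  push Not at hcon
  obtain ⟨h2, h3, h5⟩ := hcon
  obtain ⟨y, hy⟩ := exists_prime_orderOf_dvd_card' t hd
  have hy' : orderOf (y : ON) = t := by rw [orderOf_coe, hy]
  have hnd : ¬ t ∣ 3240 := by
    intro h
    have e : (3240 : ℕ) = 2 ^ 3 * 3 ^ 4 * 5 := by norm_num
    rw [e] at h
    rcases ht.dvd_mul.1 h with h | h
    · rcases ht.dvd_mul.1 h with h | h
      · exact h2 ((Nat.prime_dvd_prime_iff_eq ht Nat.prime_two).1 (ht.dvd_of_dvd_pow h))
      · exact h3 ((Nat.prime_dvd_prime_iff_eq ht Nat.prime_three).1 (ht.dvd_of_dvd_pow h))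
    · exact h5 ((Nat.prime_dvd_prime_iff_eq ht Nat.prime_five).1 h)
  -- the action of `⟨y⟩` on `P`
  let φ : zpowers y →* MulAut (P : Subgroup ON) := (normalizerMonoidHom (P : Subgroup ON)).comp (zpowers y).subtype
  let _ : MulAction (zpowers y) (P : Subgroup ON) := MulAction.compHom _ φ
  have hz : IsPGroup t (zpowers y) := IsPGroup.of_card (n := 1) (by rw [Nat.card_zpowers, hy, pow_one])
  have hmod := hz.card_modEq_card_fixedPoints (P : Subgroup ON)
  have hfix : Nat.card (MulAction.fixedPoints (zpowers y) (P : Subgroup ON)) = 1 := by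
    rw [Nat.card_eq_one_iff_unique]
    refine ⟨⟨fun a b => ?_⟩, ⟨⟨1, ?_⟩⟩⟩
    · have key : ∀ a : (P : Subgroup ON), a ∈ MulAction.fixedPoints (zpowers y) (P : Subgroup ON) → a = 1 := by
        intro a ha
        by_contra hne
        have h6 := ha ⟨y, mem_zpowers y⟩
        have h7 : (y : ON) * (a : ON) * (y : ON)⁻¹ = a := congrArg Subtype.val h6
        have h8 : (y : ON) * a = a * y := by
          rw [mul_inv_eq_iff_eq_mul] at h7
          exact h7
        have h9 : orderOf (a : ON) = 3 := order_three (he _ a.2) (fun h => hne (Subtype.ext h))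
        have h10 := Cfsg.Agent.H210.On7.no_three hy' hnd
        apply h10
        have h11 : (a : ON) ∈ centralizer ({(y : ON)} : Set ON) := mem_centralizer_singleton_iff.2 h8.symm
        have h12 := orderOf_dvd_natCard (⟨a, h11⟩ : centralizer ({(y : ON)} : Set ON))
        rwa [← orderOf_coe, h9] at h12
      exact Subtype.ext ((key _ a.2).trans (key _ b.2).symm)
    · intro g
      exact map_one (φ g)
  rw [hfix, hP] at hmod
  have h80 : t ∣ 80 := by
    have := (Nat.modEq_iff_dvd' (by norm_num : 1 ≤ 81)).1 hmod.symm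
    simpa using this
  have e : (80 : ℕ) = 2 ^ 4 * 5 := by norm_num
  rw [e] at h80
  rcases ht.dvd_mul.1 h80 with h | h
  · exact h2 ((Nat.prime_dvd_prime_iff_eq ht Nat.prime_two).1 (ht.dvd_of_dvd_pow h))
  · exact h5 ((Nat.prime_dvd_prime_iff_eq ht Nat.prime_five).1 h)

include hP hc he in
/-- `80` divides `|N(R)|` -/
theorem eighty : 80 ∣ Nat.card (normalizer ((P : Subgroup ON) : Set ON)) := by
  have := fin
  have h3 : Fact (Nat.Prime 3) := ⟨Nat.prime_three⟩
  have hcomm : IsMulCommutative P := ⟨⟨fun a b => Subtype.ext (hc _ a.2 _ b.2)⟩⟩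
  let _ : MulAction (normalizer ((P : Subgroup ON) : Set ON)) (P : Subgroup ON) :=
    MulAction.compHom _ (normalizerMonoidHom (P : Subgroup ON))
  have hnt : Nontrivial (P : Subgroup ON) := by
    apply Finite.one_lt_card_iff_nontrivial.1
    have : Nat.card (P : Subgroup ON) = 81 := hP
    omega
  obtain ⟨x, hx⟩ := exists_ne (1 : (P : Subgroup ON))
  have horb : MulAction.orbit (normalizer ((P : Subgroup ON) : Set ON)) x = {y | y ≠ 1} := by
    ext y
    constructor
    · rintro ⟨g, rfl⟩ h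
      apply hx
      exact (normalizerMonoidHom (P : Subgroup ON) g).map_eq_one_iff.1 h
    · intro hy
      have hx3 : orderOf (x : ON) = 3 := order_three (he _ x.2) (fun h => hx (Subtype.ext h))
      have hy3 : orderOf (y : ON) = 3 := order_three (he _ y.2) (fun h => hy (Subtype.ext h))
      obtain ⟨z, -, hz, -⟩ := Cfsg.Agent.H210.On7.exists_three
      obtain ⟨g, hg⟩ := isConj_iff.1 ((hz _ hx3).trans (hz _ hy3).symm)
      have hg' : g⁻¹⁻¹ * (x : ON) * g⁻¹ = y := by rw [inv_inv]; exact hg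
      obtain ⟨n, hn, hxn⟩ := Sylow.conj_eq_normalizer_conj_of_mem P (x : ON) g⁻¹ x.2 (by rw [hg']; exact y.2)
      refine ⟨⟨n⁻¹, inv_mem hn⟩, Subtype.ext ?_⟩
      show n⁻¹ * (x : ON) * n⁻¹⁻¹ = y
      rw [inv_inv, ← hxn, hg']
  have hcard : (MulAction.orbit (normalizer ((P : Subgroup ON) : Set ON)) x).ncard = 80 := by
    rw [horb]
    have h4 : ({y | y ≠ 1} : Set (P : Subgroup ON)) = {1}ᶜ := rfl
    rw [h4, Set.ncard_compl, Set.ncard_singleton]
    have : Nat.card (P : Subgroup ON) = 81 := hP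
    omega
  rw [← hcard, ← MulAction.index_stabilizer]
  exact index_dvd_card _

include hP hc he in
/-- a `{2, 3}`-subgroup of index 5 of `N(R)` -/
theorem exists_K : ∃ K : Subgroup ON, (P : Subgroup ON) ≤ K ∧ K ≤ normalizer ((P : Subgroup ON) : Set ON) ∧
    (∀ t : ℕ, t.Prime → t ∣ Nat.card K → t = 2 ∨ t = 3) ∧
    K.relIndex (normalizer ((P : Subgroup ON) : Set ON)) = 5 := by
  have := fin
  have h2F : Fact (Nat.Prime 2) := ⟨Nat.prime_two⟩
  set N := normalizer ((P : Subgroup ON) : Set ON) with hN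
  have hPN : (P : Subgroup ON) ≤ N := le_normalizer
  set R : Subgroup N := (P : Subgroup ON).subgroupOf N with hR
  have hRn : R.Normal := by rw [hR, hN]; infer_instance
  have hRc : Nat.card R = 81 := by
    rw [hR, Nat.card_congr (subgroupOfEquivOfLe hPN).toEquiv]
    exact hP
  obtain ⟨Q⟩ : Nonempty (Sylow 2 (N ⧸ R)) := inferInstance
  set K' : Subgroup N := (Q : Subgroup (N ⧸ R)).comap (QuotientGroup.mk' R) with hK'
  have hidx : K'.index = (Q : Subgroup (N ⧸ R)).index := index_comap_of_surjective _ (QuotientGroup.mk'_surjective R)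
  have hNd : Nat.card N ∣ 460815505920 := by rw [← card]; exact card_subgroup_dvd_card N
  have hRK : R ≤ K' := by
    intro r hr
    rw [hK', mem_comap, QuotientGroup.mk'_apply, (QuotientGroup.eq_one_iff r).2 hr]
    exact one_mem _
  -- the index of `K'` is a power of `5`
  have hprime : ∀ t : ℕ, t.Prime → t ∣ K'.index → t = 5 := by
    intro t ht hd
    have h1 : t ∣ Nat.card N := hd.trans (index_dvd_card _)
    rcases primes hP he ht h1 with h | h | h
    · exfalso
      rw [h, hidx] at hd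
      exact Q.not_dvd_index hd
    · exfalso
      -- `81 * 3` does not divide `|N|`
      have h4 : K'.index ∣ R.index := index_dvd_of_le hRK
      obtain ⟨k, hk⟩ := hd.trans h4
      have h5 := R.card_mul_index
      rw [hRc, hk, h] at h5
      have h6 : 243 ∣ Nat.card N := ⟨k, by rw [← h5]; ring⟩
      exact absurd (h6.trans hNd) (by norm_num)
    · exact h
  have h25 : ¬ 25 ∣ K'.index := fun h => absurd ((h.trans (index_dvd_card _)).trans hNd) (by norm_num)
  have h5 : 5 ∣ K'.index := by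
    have h5N : 5 ∣ Nat.card N := Dvd.dvd.trans (by norm_num) (eighty hP hc he)
    -- `|K'|` is not divisible by `5`
    have h4 : Nat.card K' = Nat.card Q * 81 := by
      have e1 := K'.card_mul_index
      have e2 := (Q : Subgroup (N ⧸ R)).card_mul_index
      have e3 := R.card_mul_index
      rw [hRc] at e3
      have e4 : Nat.card (N ⧸ R) = R.index := rfl
      rw [e4, ← hidx] at e2
      have hpos : 0 < K'.index := Nat.pos_of_ne_zero index_ne_zero_of_finite
      apply Nat.eq_of_mul_eq_mul_right hpos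
      rw [e1, ← e3, ← e2]
      show 81 * (Nat.card Q * K'.index) = Nat.card Q * 81 * K'.index
      ring
    have h6 := K'.card_mul_index
    rw [← h6] at h5N
    rcases (Nat.prime_five.dvd_mul).1 h5N with h7 | h7
    · exfalso
      obtain ⟨n, hn⟩ := IsPGroup.iff_card.1 Q.isPGroup'
      rw [h4, hn] at h7
      rcases (Nat.prime_five.dvd_mul).1 h7 with h8 | h8
      · have := Nat.prime_five.dvd_of_dvd_pow h8
        omega
      · omega
    · exact h7
  have hK5 : K'.index = 5 := by
    obtain ⟨k, hk⟩ := h5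
    by_contra hne
    have hk1 : k ≠ 1 := by rintro rfl; exact hne (by rw [hk])
    obtain ⟨q, hq, hqk⟩ := Nat.exists_prime_and_dvd hk1
    have h6 := hprime q hq (hk ▸ (hqk.trans (Dvd.intro_left _ rfl)))
    rw [h6] at hqk
    obtain ⟨l, rfl⟩ := hqk
    exact h25 ⟨l, by rw [hk]; ring⟩
  refine ⟨K'.map N.subtype, ?_, map_subtype_le _, ?_, ?_⟩
  · intro x hx
    exact ⟨⟨x, hPN hx⟩, hRK (mem_subgroupOf.2 hx), rfl⟩
  · intro t ht hd
    have h6 : t ∣ Nat.card K' := by
      rwa [Nat.card_congr (K'.equivMapOfInjective _ N.subtype_injective).toEquiv]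
    rcases primes hP he ht (h6.trans (card_subgroup_dvd_card K')) with h | h | h
    · exact Or.inl h
    · exact Or.inr h
    · exfalso
      have h7 := K'.card_mul_index
      rw [hK5] at h7
      rw [h] at h6
      obtain ⟨k, hk⟩ := h6
      rw [hk] at h7
      have h8 : 25 ∣ Nat.card N := ⟨k, by rw [← h7]; ring⟩
      exact absurd (h8.trans hNd) (by norm_num)
  · rw [relIndex, subgroupOf, comap_map_eq_self_of_injective N.subtype_injective, hK5]

end loc

end Cfsg.Agent.H809.PiBS.ON
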