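import Cfsg.Agent.H543.PiBS.Gen

/-!
# The sieve `|S : H| ≡ |N(R) : N_H(R)| mod r` (S3876, helper809)

* `sieve` : `R` a Sylow `r`-subgroup of `G`, `R ≤ H`;
* `DC.sieve_top` : `N(R)` a `π`-group: `|S : H| ≡ 1 mod r` for a Hall `π`-subgroup `H`;
* `DC.sieve_prime` : `K ≤ N(R)` a `π`-subgroup of prime index `q ∉ π` in `N(R)`, `R ≤ K`: `|S : H| ≡ q mod r`.
-/

set_option autoImplicit false

namespace Cfsg.Agent.H809.PiBS

open Subgroup Cfsg.Agent.H543.PiBS

universe u

variable {G : Type u} [Group G]

theorem sieve [Finite G] {p : ℕ} [hp : Fact p.Prime] (P : Sylow p G) {H : Subgroup G} (hPH : (P : Subgroup G) ≤ H) :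
    H.index ≡ (normalizer ((P : Subgroup G) : Set G) ⊓ H).relIndex (normalizer ((P : Subgroup G) : Set G)) [MOD p] := by
  set N := normalizer ((P : Subgroup G) : Set G) with hN
  have h1 : (N ⊓ H).relIndex H ≡ 1 [MOD p] := by
    have h1 : Nat.card (Sylow p H) ≡ 1 [MOD p] := card_sylow_modEq_one p H
    have h2 : Nat.card (Sylow p H) = (N ⊓ H).relIndex H := by
      rw [Sylow.card_eq_index_normalizer (P.subtype hPH)]
      unfold Subgroup.relIndex
      congr 1
      ext x
      change x ∈ normalizer (((P.subtype hPH : Sylow p H) : Subgroup H) : Set H) ↔ _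
      rw [mem_subgroupOf, mem_inf, hN, mem_normalizer_iff, mem_normalizer_iff]
      constructor
      · intro hx
        refine ⟨fun y => ⟨fun hy => ?_, fun hy => ?_⟩, x.2⟩
        · have := (hx ⟨y, hPH hy⟩).1 (by simpa [Sylow.coe_subtype, mem_subgroupOf] using hy)
          simpa [Sylow.coe_subtype, mem_subgroupOf] using this
        · have hyK : y ∈ H := by
            have := H.mul_mem (H.mul_mem (H.inv_mem x.2) (hPH hy)) x.2
            have h3 : (x : G)⁻¹ * ((x : G) * y * (x : G)⁻¹) * (x : G) = y := by group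
            rwa [h3] at this
          have := (hx ⟨y, hyK⟩).2 (by simpa [Sylow.coe_subtype, mem_subgroupOf] using hy)
          simpa [Sylow.coe_subtype, mem_subgroupOf] using this
      · rintro ⟨hx, -⟩ y
        have := hx (y : G)
        simpa [Sylow.coe_subtype, mem_subgroupOf] using this
    rw [← h2]
    exact h1
  have h2 : N.index ≡ 1 [MOD p] := by
    have h1 := card_sylow_modEq_one p G
    rw [Sylow.card_eq_index_normalizer P] at h1
    exact h1
  have h3 : (N ⊓ H).relIndex H * H.index = (N ⊓ H).index := relIndex_mul_index inf_le_right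
  have h4 : (N ⊓ H).relIndex N * N.index = (N ⊓ H).index := relIndex_mul_index inf_le_left
  have h5 : (N ⊓ H).relIndex H * H.index ≡ 1 * H.index [MOD p] := h1.mul_right _
  have h6 : (N ⊓ H).relIndex N * N.index ≡ (N ⊓ H).relIndex N * 1 [MOD p] := h2.mul_left _
  rw [h3, one_mul] at h5
  rw [h4, mul_one] at h6
  exact h5.symm.trans h6

theorem index_map_conj' (K : Subgroup G) (g : G) : (K.map (MulAut.conj g).toMonoidHom).index = K.index :=
  index_map_equiv (MulAut.conj g) K

/-- the normalizer of a conjugate -/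
theorem normalizer_smul {p : ℕ} [Fact p.Prime] (P : Sylow p G) (g : G) :
    normalizer (((g • P : Sylow p G) : Subgroup G) : Set G) =
      (normalizer ((P : Subgroup G) : Set G)).map (MulAut.conj g).toMonoidHom := by
  ext x
  constructor
  · intro h'
    have h : x • (g • P) = g • P := Sylow.smul_eq_iff_mem_normalizer.2 h'
    refine ⟨g⁻¹ * x * g, ?_, by simp [mul_assoc]⟩
    refine Sylow.smul_eq_iff_mem_normalizer.1 ?_
    have e : (g⁻¹ * x * g) • P = g⁻¹ • (x • (g • P)) := by rw [smul_smul, smul_smul, mul_assoc]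
    rw [e, h, inv_smul_smul]
  · rintro ⟨y, hy, rfl⟩
    have h1 : y • P = P := Sylow.smul_eq_iff_mem_normalizer.2 hy
    refine Sylow.smul_eq_iff_mem_normalizer.1 ?_
    show (g * y * g⁻¹) • (g • P) = g • P
    rw [smul_smul, inv_mul_cancel_right, mul_smul, h1]

variable {π : Set ℕ}

/-- **the sieve, `N(R)` a `π`-group** -/
theorem sieve_top [Finite G] (hD : DC π G) {p : ℕ} [hp : Fact p.Prime] (P : Sylow p G)
    (hN : IsPiSubgroup π (normalizer ((P : Subgroup G) : Set G))) {H : Subgroup G} (hH : IsPiHall π H) :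
    H.index ≡ 1 [MOD p] := by
  obtain ⟨g, hg⟩ := hD.conj_le hH hN
  rw [← normalizer_smul P g] at hg
  have h1 := sieve (g • P) (le_normalizer.trans hg)
  rw [inf_eq_left.2 hg, relIndex_self] at h1
  exact h1

/-- **the sieve, a `π`-subgroup of prime index `q ∉ π` of `N(R)`** -/
theorem sieve_prime [Finite G] (hD : DC π G) {p : ℕ} [hp : Fact p.Prime] (P : Sylow p G) {K : Subgroup G}
    (hPK : (P : Subgroup G) ≤ K) (hKN : K ≤ normalizer ((P : Subgroup G) : Set G)) (hK : IsPiSubgroup π K) {q : ℕ}
    (hq : q.Prime) (hqπ : q ∉ π) (hKq : K.relIndex (normalizer ((P : Subgroup G) : Set G)) = q) {H : Subgroup G}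
    (hH : IsPiHall π H) : H.index ≡ q [MOD p] := by
  obtain ⟨g, hg⟩ := hD.conj_le hH hK
  have h0 : ((g • P : Sylow p G) : Subgroup G) = (P : Subgroup G).map (MulAut.conj g).toMonoidHom := rfl
  have hPH : ((g • P : Sylow p G) : Subgroup G) ≤ H := by
    rw [h0]
    exact (map_mono hPK).trans hg
  have h1 := sieve (g • P) hPH
  set N := normalizer ((P : Subgroup G) : Set G) with hN
  rw [normalizer_smul P g, ← hN] at h1
  have hKN' : K.map (MulAut.conj g).toMonoidHom ≤ N.map (MulAut.conj g).toMonoidHom := map_mono hKN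
  have h2 : (K.map (MulAut.conj g).toMonoidHom).relIndex (N.map (MulAut.conj g).toMonoidHom) = q := by
    rw [← hKq]
    have e1 : (K.map (MulAut.conj g).toMonoidHom).relIndex (N.map (MulAut.conj g).toMonoidHom) *
        (N.map (MulAut.conj g).toMonoidHom).index = (K.map (MulAut.conj g).toMonoidHom).index :=
      relIndex_mul_index hKN'
    have e2 : K.relIndex N * N.index = K.index := relIndex_mul_index hKN
    rw [index_map_conj', index_map_conj', ← e2] at e1
    exact Nat.eq_of_mul_eq_mul_right (Nat.pos_of_ne_zero index_ne_zero_of_finite) e1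
  have h3 : (N.map (MulAut.conj g).toMonoidHom ⊓ H).relIndex (N.map (MulAut.conj g).toMonoidHom) ∣ q := by
    rw [← h2]
    have h4 : K.map (MulAut.conj g).toMonoidHom ≤ N.map (MulAut.conj g).toMonoidHom ⊓ H := le_inf hKN' hg
    exact relIndex_dvd_of_le_left _ h4
  rcases (Nat.dvd_prime hq).1 h3 with h4 | h4
  · exfalso
    rw [relIndex_eq_one] at h4
    have h5 : N.map (MulAut.conj g).toMonoidHom ≤ H := h4.trans inf_le_right
    apply hqπ
    apply hH.1 q hq
    refine dvd_trans ?_ (card_dvd_of_le h5)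
    rw [← h2]
    exact relIndex_dvd_card _ _
  · rw [h4] at h1
    exact h1

end Cfsg.Agent.H809.PiBS
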